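import Mathlib
import Cfsg.Agent.H198.IF.Step
import Cfsg.Agent.H94.IF.KOneB
import Cfsg.Agent.S0242

/-!
# S5719, orthogonal groups, `q` odd: fundamental involutions of an overgroup of a fundamental `SL₂` (helper900)

`h : Four Q e₁ f₁ e₂ f₂`, `K₁ = h.rhoE.range`, `z = h.rhoE (-1)`.

* `card_le_of_not_comm` : an element `g` of `E Q` not commuting with `z` is centralized by at most `q` elements of `SL₂(q)`;
* `card_le_of_comm` : an element commuting with `z`, not `±1` on `V_-(z)`, by at most `2q`;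
* `zeta` : dimension seven, `K₁ ≤ A`: `z` is the only fundamental involution of `A` or there are at least
  `(q² + 1)/2` of them.
-/

set_option autoImplicit false
set_option linter.unusedSimpArgs false
set_option linter.unusedVariables false
set_option linter.unusedSectionVars false

namespace Cfsg.Agent.H900.IF

open Module QuadraticMap Cfsg.Agent.LieClassical Cfsg.Agent.LieClassical.OrthCore Cfsg.Agent.LieClassical.OrthTrans
  Cfsg.Agent.LieClassical.OrthSimple Cfsg.Agent.AutOrth.SemiSim Cfsg.Agent.AutOrth.Gen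
  Cfsg.Agent.H989.Gs.Gen Cfsg.Agent.H989.Fx Cfsg.Agent.H198.IF
open Cfsg.Agent.UGT.U2.FOne.Orth (Four)
open Matrix (SpecialLinearGroup)

variable {F V : Type*} [Field F] [AddCommGroup V] [Module F V] {Q : QuadraticForm F V}
  {e₁ f₁ e₂ f₂ : V}

theorem neg_entries : (neg₂ F).1 0 0 = -1 ∧ (neg₂ F).1 0 1 = 0 ∧ (neg₂ F).1 1 0 = 0 ∧ (neg₂ F).1 1 1 = -1 := by
  simp [neg₂]

theorem inv_entries (k : SpecialLinearGroup (Fin 2) F) : (k⁻¹).1 0 0 = k.1 1 1 ∧ (k⁻¹).1 0 1 = -k.1 0 1 ∧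
    (k⁻¹).1 1 0 = -k.1 1 0 ∧ (k⁻¹).1 1 1 = k.1 0 0 := by
  rw [Matrix.SpecialLinearGroup.coe_inv, Matrix.adjugate_fin_two]
  exact ⟨rfl, rfl, rfl, rfl⟩

/-- `2 (k + k⁻¹) = (2 + tr k) + (2 - tr k) z` -/
theorem two_add_inv (h : Four Q e₁ f₁ e₂ f₂) (k : SpecialLinearGroup (Fin 2) F) (v : V) :
    (2 : F) • (ap (h.rhoE k) v + ap (h.rhoE k⁻¹) v) =
      (2 + (k.1 0 0 + k.1 1 1)) • v + (2 - (k.1 0 0 + k.1 1 1)) • ap (h.rhoE (neg₂ F)) v := by
  have key : ∀ (k : SpecialLinearGroup (Fin 2) F) (v : V), ap (h.rhoE k) v = h.phi k v := fun _ _ => rfl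
  obtain ⟨i00, i01, i10, i11⟩ := inv_entries k
  obtain ⟨m00, m01, m10, m11⟩ := neg_entries (F := F)
  rw [key, key, key]
  unfold Four.phi
  rw [i00, i01, i10, i11, m00, m01, m10, m11]
  module

/-- an element commuting with a nontrivial semisimple element of `K₁` commutes with `z` -/
theorem comm_z_of_comm (h : Four Q e₁ f₁ e₂ f₂) {k : SpecialLinearGroup (Fin 2) F} {g : ↥(E Q)}
    (hk : g * h.rhoE k = h.rhoE k * g) (ht : k.1 0 0 + k.1 1 1 ≠ 2) :
    g * h.rhoE (neg₂ F) = h.rhoE (neg₂ F) * g := by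
  have hk' : g * h.rhoE k⁻¹ = h.rhoE k⁻¹ * g := by
    rw [map_inv]
    exact (Commute.inv_right (show Commute g (h.rhoE k) from hk)).eq
  apply ext_ap
  intro v
  have h1 := two_add_inv h k (ap g v)
  have h2 := congrArg (ap g) (two_add_inv h k v)
  rw [← ap_mul, ← ap_mul, ← hk, ← hk', ap_mul, ap_mul] at h1
  rw [ap_smul, ap_add, ap_add, ap_smul, ap_smul] at h2
  rw [h1] at h2
  have h3 : (2 - (k.1 0 0 + k.1 1 1)) • (ap (h.rhoE (neg₂ F)) (ap g v) - ap g (ap (h.rhoE (neg₂ F)) v)) = 0 := by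
    rw [smul_sub, sub_eq_zero]
    exact add_left_cancel h2
  rcases smul_eq_zero.1 h3 with h4 | h4
  · exact absurd (sub_eq_zero.1 h4).symm ht
  · rw [ap_mul, ap_mul]
    exact (sub_eq_zero.1 h4).symm

/-- the elements of `SL₂` commuting with `g` -/
def St (h : Four Q e₁ f₁ e₂ f₂) (g : ↥(E Q)) : Subgroup (SpecialLinearGroup (Fin 2) F) :=
  (Subgroup.centralizer ({g} : Set ↥(E Q))).comap h.rhoE

theorem mem_St {h : Four Q e₁ f₁ e₂ f₂} {g : ↥(E Q)} {k : SpecialLinearGroup (Fin 2) F} :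
    k ∈ St h g ↔ g * h.rhoE k = h.rhoE k * g := by
  rw [St, Subgroup.mem_comap, Subgroup.mem_centralizer_singleton_iff]
  exact eq_comm

/-- the conjugates of `g` under `K₁` -/
def Cj (h : Four Q e₁ f₁ e₂ f₂) (g : ↥(E Q)) : Set ↥(E Q) :=
  Set.range fun k : SpecialLinearGroup (Fin 2) F => h.rhoE k * g * (h.rhoE k)⁻¹

theorem card_SL2 [Finite F] : Nat.card (SpecialLinearGroup (Fin 2) F) = Nat.card F * (Nat.card F ^ 2 - 1) := by
  have : Fintype F := Fintype.ofFinite F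
  have h1 := Cfsg.Agent.S0242.result (F := F) rfl 2 (by norm_num)
  have hq : 2 ≤ Fintype.card F := Fintype.one_lt_card
  rw [Fin.prod_univ_two] at h1
  have h3 : Fintype.card F ^ 2 - Fintype.card F ^ 1 = (Fintype.card F - 1) * Fintype.card F := by
    rw [Nat.sub_mul, one_mul, pow_one, pow_two]
  simp only [Fin.val_zero, Fin.val_one, pow_zero] at h1
  rw [h3] at h1
  have h4 : (Fintype.card F - 1) * Nat.card (Matrix.SpecialLinearGroup (Fin 2) F) =
      (Fintype.card F - 1) * (Fintype.card F * (Fintype.card F ^ 2 - 1)) := by rw [h1]; ring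
  rw [Nat.card_eq_fintype_card (α := F)]
  exact Nat.eq_of_mul_eq_mul_left (by omega) h4

/-- orbit and stabilizer -/
theorem card_Cj [Finite F] (h : Four Q e₁ f₁ e₂ f₂) (g : ↥(E Q)) :
    (Cj h g).ncard * Nat.card (St h g) = Nat.card F * (Nat.card F ^ 2 - 1) := by
  rw [← card_SL2 (F := F), ← Subgroup.index_mul_card (St h g)]
  congr 1
  rw [Subgroup.index, ← Nat.card_coe_set_eq]
  refine (Nat.card_congr (Equiv.ofBijective (Quotient.lift
    (fun k : SpecialLinearGroup (Fin 2) F => (⟨h.rhoE k * g * (h.rhoE k)⁻¹, ⟨k, rfl⟩⟩ : Cj h g)) ?_) ⟨?_, ?_⟩)).symm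
  · intro a b hab
    have h1 : a⁻¹ * b ∈ St h g := QuotientGroup.leftRel_apply.1 hab
    rw [mem_St, map_mul, map_inv] at h1
    apply Subtype.ext
    change h.rhoE a * g * (h.rhoE a)⁻¹ = h.rhoE b * g * (h.rhoE b)⁻¹
    rw [eq_mul_inv_iff_mul_eq, mul_assoc, mul_assoc, h1]
    group
  · intro a b hab
    induction a using QuotientGroup.induction_on with
    | H a =>
      induction b using QuotientGroup.induction_on with
      | H b =>
        have h1 : h.rhoE a * g * (h.rhoE a)⁻¹ = h.rhoE b * g * (h.rhoE b)⁻¹ := congrArg Subtype.val hab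
        rw [QuotientGroup.eq, mem_St, map_mul, map_inv]
        rw [eq_mul_inv_iff_mul_eq] at h1
        have h2 : g * ((h.rhoE a)⁻¹ * h.rhoE b) = (h.rhoE a)⁻¹ * (h.rhoE a * g * (h.rhoE a)⁻¹ * h.rhoE b) := by group
        rw [h2, h1]
        group
  · rintro ⟨_, ⟨k, rfl⟩⟩
    exact ⟨(k : SpecialLinearGroup (Fin 2) F ⧸ St h g), rfl⟩

/-- **an element not commuting with `z` commutes with at most `q` elements of `SL₂(q)`** -/
theorem card_le_of_not_comm [Finite F] (h : Four Q e₁ f₁ e₂ f₂) {g : ↥(E Q)}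
    (hg : g * h.rhoE (neg₂ F) ≠ h.rhoE (neg₂ F) * g) : Nat.card (St h g) ≤ Nat.card F := by
  classical
  have := Fintype.ofFinite F
  obtain ⟨p, hp⟩ := CharP.exists F
  have hpf : Fact p.Prime := ⟨CharP.char_is_prime F p⟩
  have h1 : IsPGroup p (St h g) := by
    intro x
    refine ⟨1, ?_⟩
    apply Subtype.ext
    have h2 : (x : SpecialLinearGroup (Fin 2) F).1 0 0 + (x : SpecialLinearGroup (Fin 2) F).1 1 1 = 2 := by
      by_contra hne
      exact hg (comm_z_of_comm h (mem_St.1 x.2) hne)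
    rw [pow_one]
    exact Cfsg.Agent.H94.IF.pow_char_of_trace_two (p := p) h2
  obtain ⟨n, hn⟩ := IsPGroup.iff_card.1 h1
  obtain ⟨m, -, hm⟩ := FiniteField.card F p
  have hm' : Nat.card F = p ^ (m : ℕ) := by rw [Nat.card_eq_fintype_card, hm]
  have hq2 : 2 ≤ Nat.card F := by
    have := Fintype.one_lt_card (α := F)
    rw [Nat.card_eq_fintype_card]; omega
  have h3 : p ^ n ∣ Nat.card F * (Nat.card F ^ 2 - 1) := by
    rw [← hn, ← card_SL2 (F := F)]
    exact Subgroup.card_subgroup_dvd_card _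
  have h4 : Nat.Coprime (p ^ n) (Nat.card F ^ 2 - 1) := by
    apply Nat.Coprime.pow_left
    rw [Nat.Prime.coprime_iff_not_dvd hpf.out]
    intro hd
    have h5 : p ∣ Nat.card F ^ 2 := by
      rw [hm', ← pow_mul]
      exact dvd_pow_self _ (by have := m.2; positivity)
    have h6 : 1 ≤ Nat.card F ^ 2 := Nat.one_le_pow _ _ (by omega)
    have h7 := Nat.dvd_sub h5 hd
    rw [Nat.sub_sub_self h6] at h7
    exact hpf.out.one_lt.ne' (Nat.dvd_one.1 h7)
  rw [hn]
  exact Nat.le_of_dvd (by omega) (h4.dvd_of_dvd_mul_right h3)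

/-! ### The commuting case -/

theorem det_rel (k : SpecialLinearGroup (Fin 2) F) : k.1 0 0 * k.1 1 1 - k.1 0 1 * k.1 1 0 = 1 := by
  have := k.2
  rwa [Matrix.det_fin_two] at this

theorem sl_ext' {a b : SpecialLinearGroup (Fin 2) F} (h00 : a.1 0 0 = b.1 0 0) (h01 : a.1 0 1 = b.1 0 1)
    (h10 : a.1 1 0 = b.1 1 0) (h11 : a.1 1 1 = b.1 1 1) : a = b := by
  apply Subtype.ext
  ext i j
  fin_cases i <;> fin_cases j <;> assumption

/-- elements of `SL₂` proportional to a nonscalar matrix, modulo scalars -/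
theorem card_le_two [Finite F] (h2 : (2 : F) ≠ 0) (S : Subgroup (SpecialLinearGroup (Fin 2) F)) {a b d : F}
    (hne : ¬ (a = 0 ∧ b = 0 ∧ d = 0))
    (hS : ∀ k ∈ S, k.1 1 0 * a = k.1 0 1 * b ∧ k.1 1 0 * d = b * (k.1 0 0 - k.1 1 1) ∧
      k.1 0 1 * d = a * (k.1 0 0 - k.1 1 1)) : Nat.card S ≤ 2 * Nat.card F := by
  classical
  have := Fintype.ofFinite F
  have := Fintype.ofFinite S
  have hs : ∀ k : S, ∃ s : F, (k : SpecialLinearGroup (Fin 2) F).1 0 1 = s * a ∧
      (k : SpecialLinearGroup (Fin 2) F).1 1 0 = s * b ∧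
      (k : SpecialLinearGroup (Fin 2) F).1 0 0 - (k : SpecialLinearGroup (Fin 2) F).1 1 1 = s * d := by
    intro k
    obtain ⟨h1, h3, h4⟩ := hS k k.2
    by_cases ha : a = 0
    · by_cases hb : b = 0
      · have hd : d ≠ 0 := fun hd => hne ⟨ha, hb, hd⟩
        refine ⟨(k.1.1 0 0 - k.1.1 1 1) / d, ?_, ?_, ?_⟩
        · rw [ha, mul_zero]
          rw [ha, zero_mul] at h4
          exact (mul_eq_zero.1 h4).resolve_right hd
        · rw [hb, mul_zero]
          rw [hb, zero_mul] at h3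
          exact (mul_eq_zero.1 h3).resolve_right hd
        · rw [div_mul_cancel₀ _ hd]
      · refine ⟨k.1.1 1 0 / b, ?_, ?_, ?_⟩
        · rw [div_mul_eq_mul_div, eq_div_iff hb]
          exact h1.symm
        · rw [div_mul_cancel₀ _ hb]
        · rw [div_mul_eq_mul_div, eq_div_iff hb]
          linear_combination -h3
    · refine ⟨k.1.1 0 1 / a, ?_, ?_, ?_⟩
      · rw [div_mul_cancel₀ _ ha]
      · rw [div_mul_eq_mul_div, eq_div_iff ha]
        exact h1
      · rw [div_mul_eq_mul_div, eq_div_iff ha]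
        linear_combination -h4
  choose f hf1 hf2 hf3 using hs
  have hrel : ∀ k : S, (k.1.1 0 0 + k.1.1 1 1) ^ 2 = f k ^ 2 * (d ^ 2 + 4 * a * b) + 4 := by
    intro k
    have e1 := hf1 k
    have e2 := hf2 k
    have e3 := hf3 k
    have e4 := det_rel k.1
    have e5 : (k.1.1 0 0 - k.1.1 1 1) ^ 2 = (f k * d) ^ 2 := by rw [e3]
    have e6 : k.1.1 0 1 * k.1.1 1 0 = (f k * a) * (f k * b) := by rw [e1, e2]
    linear_combination e5 + 4 * e6 + 4 * e4
  rw [Nat.card_eq_fintype_card, Nat.card_eq_fintype_card, ← Finset.card_univ, ← Finset.card_univ]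
  refine Finset.card_le_mul_card_image_of_maps_to (f := f) (fun _ _ => Finset.mem_univ _) 2 ?_
  intro s _
  have h1 : Finset.card (Finset.univ.filter fun k => f k = s) ≤
      Finset.card (Polynomial.nthRoots 2 (s ^ 2 * (d ^ 2 + 4 * a * b) + 4)).toFinset := by
    refine Finset.card_le_card_of_injOn (fun k => k.1.1 0 0 + k.1.1 1 1) ?_ ?_
    · intro k hk
      rw [Finset.mem_coe, Finset.mem_filter] at hk
      rw [Finset.mem_coe, Multiset.mem_toFinset, Polynomial.mem_nthRoots (by norm_num)]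
      rw [← hk.2]
      exact hrel k
    · intro k hk k' hk' h
      rw [Finset.mem_coe, Finset.mem_filter] at hk hk'
      apply Subtype.ext
      have e1 := hf1 k
      have e2 := hf2 k
      have e3 := hf3 k
      have e1' := hf1 k'
      have e2' := hf2 k'
      have e3' := hf3 k'
      rw [hk.2] at e1 e2 e3
      rw [hk'.2] at e1' e2' e3'
      have h : k.1.1 0 0 + k.1.1 1 1 = k'.1.1 0 0 + k'.1.1 1 1 := h
      apply sl_ext'
      · apply mul_left_cancel₀ h2
        linear_combination e3 - e3' + h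
      · rw [e1, e1']
      · rw [e2, e2']
      · apply mul_left_cancel₀ h2
        linear_combination -e3 + e3' + h
  refine h1.trans ((Multiset.toFinset_card_le _).trans (Polynomial.card_nthRoots 2 _))

/-- a block of an element commuting with `k` commutes with `k` -/
theorem blk (h : Four Q e₁ f₁ e₂ f₂) {s : ↥(E Q)} {k : SpecialLinearGroup (Fin 2) F}
    (hs : s * h.rhoE k = h.rhoE k * s) {b₁ b₂ : V} {l₁ l₂ : V →ₗ[F] F}
    (hb1 : ap (h.rhoE k) b₁ = k.1 0 0 • b₁ + k.1 1 0 • b₂) (hb2 : ap (h.rhoE k) b₂ = k.1 0 1 • b₁ + k.1 1 1 • b₂)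
    (hl1 : ∀ v, l₁ (ap (h.rhoE k) v) = k.1 0 0 * l₁ v + k.1 0 1 * l₂ v)
    (hl2 : ∀ v, l₂ (ap (h.rhoE k) v) = k.1 1 0 * l₁ v + k.1 1 1 * l₂ v) :
    k.1 1 0 * l₁ (ap s b₂) = k.1 0 1 * l₂ (ap s b₁) ∧
    k.1 1 0 * (l₁ (ap s b₁) - l₂ (ap s b₂)) = l₂ (ap s b₁) * (k.1 0 0 - k.1 1 1) ∧
    k.1 0 1 * (l₁ (ap s b₁) - l₂ (ap s b₂)) = l₁ (ap s b₂) * (k.1 0 0 - k.1 1 1) := by
  have key : ∀ v, ap s (ap (h.rhoE k) v) = ap (h.rhoE k) (ap s v) := by
    intro v
    rw [← ap_mul, hs, ap_mul]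
  have c1 := congrArg l₁ (key b₁)
  have c2 := congrArg l₂ (key b₁)
  have c3 := congrArg l₁ (key b₂)
  have c4 := congrArg l₂ (key b₂)
  rw [hb1, ap_add, ap_smul, ap_smul, map_add, map_smul, map_smul, smul_eq_mul, smul_eq_mul, hl1] at c1
  rw [hb1, ap_add, ap_smul, ap_smul, map_add, map_smul, map_smul, smul_eq_mul, smul_eq_mul, hl2] at c2
  rw [hb2, ap_add, ap_smul, ap_smul, map_add, map_smul, map_smul, smul_eq_mul, smul_eq_mul, hl1] at c3
  refine ⟨?_, ?_, ?_⟩
  · linear_combination c1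
  · linear_combination -c2
  · linear_combination c3

/-- a vector of the `-1` space of `z` -/
theorem eq_comb (h2 : (2 : F) ≠ 0) (h : Four Q e₁ f₁ e₂ f₂) {v : V} (hv : ap (h.rhoE (neg₂ F)) v = -v) :
    v = polar Q f₁ v • e₁ + polar Q f₂ v • e₂ + polar Q e₂ v • f₂ + polar Q e₁ v • f₁ := by
  have key : ap (h.rhoE (neg₂ F)) v = h.phi (neg₂ F) v := rfl
  obtain ⟨m00, m01, m10, m11⟩ := neg_entries (F := F)
  rw [key] at hv
  unfold Four.phi at hv
  rw [m00, m01, m10, m11] at hv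
  have h3 : (2 : F) • (v - (polar Q f₁ v • e₁ + polar Q f₂ v • e₂ + polar Q e₂ v • f₂ + polar Q e₁ v • f₁)) = 0 := by
    have : (2 : F) • (v - (polar Q f₁ v • e₁ + polar Q f₂ v • e₂ + polar Q e₂ v • f₂ + polar Q e₁ v • f₁)) =
      (v + ((-1 - 1) * polar Q f₁ v + 0 * polar Q f₂ v) • e₁ + (0 * polar Q f₁ v + (-1 - 1) * polar Q f₂ v) • e₂ +
        ((-1 - 1) * polar Q e₁ v - 0 * polar Q e₂ v) • f₁ + (-0 * polar Q e₁ v + (-1 - 1) * polar Q e₂ v) • f₂) + v := by
      module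
    rw [this, hv, neg_add_cancel]
  exact sub_eq_zero.1 ((smul_eq_zero.1 h3).resolve_left h2)

/-- **an involution commuting with `z`** -/
theorem comm_case [Finite F] (h2 : (2 : F) ≠ 0) (h : Four Q e₁ f₁ e₂ f₂) {s : ↥(E Q)} (hs : s * s = 1)
    (hz : s * h.rhoE (neg₂ F) = h.rhoE (neg₂ F) * s) : Nat.card (St h s) ≤ 2 * Nat.card F ∨
    ∃ c : F, (c = 1 ∨ c = -1) ∧ ap s e₁ = c • e₁ ∧ ap s f₁ = c • f₁ ∧ ap s e₂ = c • e₂ ∧ ap s f₂ = c • f₂ := by
  by_cases hc : Nat.card (St h s) ≤ 2 * Nat.card F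
  · exact Or.inl hc
  right
  obtain ⟨p1, p2, p3, p4, p5, p6, p7, p8, p9, p10, p11, p12, p13, p14, p15, p16⟩ := h.pols
  have k1 : ∀ k : SpecialLinearGroup (Fin 2) F, ap (h.rhoE k) e₁ = k.1 0 0 • e₁ + k.1 1 0 • e₂ := fun k => h.rho_e1 k
  have k2 : ∀ k : SpecialLinearGroup (Fin 2) F, ap (h.rhoE k) e₂ = k.1 0 1 • e₁ + k.1 1 1 • e₂ := fun k => h.rho_e2 k
  have k3 : ∀ k : SpecialLinearGroup (Fin 2) F, ap (h.rhoE k) f₂ = k.1 0 0 • f₂ + k.1 1 0 • (-f₁) := fun k => by
    refine (h.rho_f2 k).trans ?_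
    module
  have k4 : ∀ k : SpecialLinearGroup (Fin 2) F, ap (h.rhoE k) (-f₁) = k.1 0 1 • f₂ + k.1 1 1 • (-f₁) := fun k => by
    rw [ap_neg]
    refine (congrArg _ (h.rho_f1 k)).trans ?_
    module
  let L1 : V →ₗ[F] F := polarBilin Q f₁
  let L2 : V →ₗ[F] F := polarBilin Q f₂
  let M1 : V →ₗ[F] F := polarBilin Q e₂
  let M2 : V →ₗ[F] F := -polarBilin Q e₁
  have hL1 : ∀ v, L1 v = polar Q f₁ v := fun _ => rfl
  have hL2 : ∀ v, L2 v = polar Q f₂ v := fun _ => rfl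
  have hM1 : ∀ v, M1 v = polar Q e₂ v := fun _ => rfl
  have hM2 : ∀ v, M2 v = -polar Q e₁ v := fun _ => rfl
  have l1 : ∀ (k : SpecialLinearGroup (Fin 2) F) v, L1 (ap (h.rhoE k) v) = k.1 0 0 * L1 v + k.1 0 1 * L2 v :=
    fun k v => h.polar_f1 k v
  have l2 : ∀ (k : SpecialLinearGroup (Fin 2) F) v, L2 (ap (h.rhoE k) v) = k.1 1 0 * L1 v + k.1 1 1 * L2 v :=
    fun k v => h.polar_f2 k v
  have m1 : ∀ (k : SpecialLinearGroup (Fin 2) F) v, M1 (ap (h.rhoE k) v) = k.1 0 0 * M1 v + k.1 0 1 * M2 v := by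
    intro k v
    rw [hM1, hM1, hM2]
    refine (h.polar_e2 k v).trans ?_
    ring
  have m2 : ∀ (k : SpecialLinearGroup (Fin 2) F) v, M2 (ap (h.rhoE k) v) = k.1 1 0 * M1 v + k.1 1 1 * M2 v := by
    intro k v
    rw [hM1, hM2, hM2]
    refine (congrArg _ (h.polar_e1 k v)).trans ?_
    ring
  have gen : ∀ {b₁ b₂ : V} {l₁ l₂ : V →ₗ[F] F},
      (∀ k : SpecialLinearGroup (Fin 2) F, ap (h.rhoE k) b₁ = k.1 0 0 • b₁ + k.1 1 0 • b₂) →
      (∀ k : SpecialLinearGroup (Fin 2) F, ap (h.rhoE k) b₂ = k.1 0 1 • b₁ + k.1 1 1 • b₂) →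
      (∀ (k : SpecialLinearGroup (Fin 2) F) v, l₁ (ap (h.rhoE k) v) = k.1 0 0 * l₁ v + k.1 0 1 * l₂ v) →
      (∀ (k : SpecialLinearGroup (Fin 2) F) v, l₂ (ap (h.rhoE k) v) = k.1 1 0 * l₁ v + k.1 1 1 * l₂ v) →
      l₁ (ap s b₂) = 0 ∧ l₂ (ap s b₁) = 0 ∧ l₁ (ap s b₁) = l₂ (ap s b₂) := by
    intro b₁ b₂ l₁ l₂ q1 q2 q3 q4
    by_contra hne
    apply hc
    refine card_le_two h2 (St h s) (a := l₁ (ap s b₂)) (b := l₂ (ap s b₁)) (d := l₁ (ap s b₁) - l₂ (ap s b₂)) ?_ ?_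
    · rintro ⟨r1, r2, r3⟩
      exact hne ⟨r1, r2, sub_eq_zero.1 r3⟩
    · intro k hk
      exact blk h (mem_St.1 hk) (q1 k) (q2 k) (q3 k) (q4 k)
  obtain ⟨A1, A2, A3⟩ := gen k1 k2 l1 l2
  obtain ⟨B1, B2, B3⟩ := gen k1 k2 m1 m2
  obtain ⟨C1, C2, C3⟩ := gen k3 k4 l1 l2
  obtain ⟨D1, D2, D3⟩ := gen k3 k4 m1 m2
  simp only [hL1, hL2, hM1, hM2, ap_neg, polar_neg_right, neg_neg, neg_eq_zero] at A1 A2 A3 B1 B2 B3 C1 C2 C3 D1 D2 D3
  have hzs : ∀ v, ap (h.rhoE (neg₂ F)) v = -v → ap s v = polar Q f₁ (ap s v) • e₁ + polar Q f₂ (ap s v) • e₂ +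
      polar Q e₂ (ap s v) • f₂ + polar Q e₁ (ap s v) • f₁ := by
    intro v hv
    apply eq_comb h2 h
    rw [← ap_mul, ← hz, ap_mul, hv, ap_neg]
  obtain ⟨z1, z2, z3, z4⟩ := rho_neg h
  have s1 := hzs e₁ z1
  have s2 := hzs f₁ z2
  have s3 := hzs e₂ z3
  have s4 := hzs f₂ z4
  have s1' : ap s e₁ = polar Q f₁ (ap s e₁) • e₁ + polar Q e₂ (ap s e₁) • f₂ := by
    refine s1.trans ?_
    rw [A2, B2]
    module
  have s4' : ap s f₂ = polar Q f₁ (ap s f₂) • e₁ + polar Q e₂ (ap s f₂) • f₂ := by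
    refine s4.trans ?_
    rw [C2, D2]
    module
  have s3' : ap s e₂ = polar Q f₁ (ap s e₁) • e₂ - polar Q e₂ (ap s e₁) • f₁ := by
    refine s3.trans ?_
    rw [A1, B1, A3, B3]
    module
  have s2' : ap s f₁ = -(polar Q f₁ (ap s f₂) • e₂) + polar Q e₂ (ap s f₂) • f₁ := by
    refine s2.trans ?_
    rw [C1, D1, C3, D3]
    module
  generalize polar Q f₁ (ap s e₁) = p at s1' s3'
  generalize polar Q e₂ (ap s e₁) = r at s1' s3'
  generalize polar Q f₁ (ap s f₂) = p' at s2' s4'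
  generalize polar Q e₂ (ap s f₂) = t at s2' s4'
  have hss : ∀ v, ap s (ap s v) = v := fun v => by rw [← ap_mul, hs, ap_one]
  have t1 := hss e₁
  have t2 := hss f₂
  have t3 := polar_ap s e₁ f₁
  rw [s1', ap_add, ap_smul, ap_smul, s1', s4'] at t1
  rw [s4', ap_add, ap_smul, ap_smul, s1', s4'] at t2
  rw [s1', s2'] at t3
  have u1 := congrArg (polar Q f₁) t1
  have u2 := congrArg (polar Q e₂) t1
  have u3 := congrArg (polar Q f₁) t2
  have u4 := congrArg (polar Q e₂) t2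
  simp only [polar_add_right, polar_add_left, polar_smul_right, polar_smul_left, polar_neg_right, smul_eq_mul,
    p1, p2, p3, p4, p5, p6, p7, p8, p9, p10, p11, p12, p13, p14, p15, p16, mul_zero, mul_one, add_zero, zero_add,
    neg_zero] at u1 u2 u3 u4 t3
  have hpt : p + t ≠ 0 := by
    intro h0
    have : (2 : F) = 0 := by linear_combination p * h0 - u1 - t3
    exact h2 this
  have hr : r = 0 := by
    have : r * (p + t) = 0 := by linear_combination u2
    exact (mul_eq_zero.1 this).resolve_right hpt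
  have hp' : p' = 0 := by
    have : p' * (p + t) = 0 := by linear_combination u3
    exact (mul_eq_zero.1 this).resolve_right hpt
  subst hr hp'
  have hpp : (p - 1) * (p + 1) = 0 := by linear_combination u1
  have htp : t = p := by linear_combination p * t3 - t * u1
  subst htp
  refine ⟨t, ?_, ?_, ?_, ?_, ?_⟩
  · rcases mul_eq_zero.1 hpp with h0 | h0
    · exact Or.inl (sub_eq_zero.1 h0)
    · exact Or.inr (eq_neg_of_add_eq_zero_left h0)
  · rw [s1']; module
  · rw [s2']; module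
  · rw [s3']; module
  · rw [s4']; module

/-- **Fundamental involutions of an overgroup of a fundamental `SL₂`**, dimension seven. -/
theorem zeta [Finite F] [FiniteDimensional F V] (h2 : (2 : F) ≠ 0) (hQ : Nondeg Q) (h7 : Module.finrank F V = 7)
    {A : Subgroup ↥(E Q)} {e₁ f₁ e₂ f₂ : V} (h : Four Q e₁ f₁ e₂ f₂) (hA : h.rhoE.range ≤ A) :
    {s : ↥(E Q) | Fund Q s ∧ s ∈ A}.ncard = 1 ∨
      Nat.card F ^ 2 + 1 ≤ 2 * {s : ↥(E Q) | Fund Q s ∧ s ∈ A}.ncard := by
  classical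
  have : Finite V := Module.finite_of_finite F
  have hfin : Finite ↥(E Q) := Finite.of_injective (fun (g : ↥(E Q)) (v : V) => ap g v) fun a b hab =>
    ext_ap fun v => congrFun hab v
  set z := h.rhoE (neg₂ F) with hzdef
  have hzF : Fund Q z := fund_rho h
  have hzA : z ∈ A := hA ⟨_, rfl⟩
  obtain ⟨z1, z2, z3, z4⟩ := rho_neg h
  have hq2 : 2 ≤ Nat.card F := Finite.one_lt_card
  have hq3 : 4 ≤ Nat.card F ^ 2 := by nlinarith
  by_cases hall : ∀ s : ↥(E Q), Fund Q s → s ∈ A → s = z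
  · left
    rw [Set.ncard_eq_one]
    refine ⟨z, ?_⟩
    ext s
    exact ⟨fun hs => hall s hs.1 hs.2, fun hs => by rw [Set.mem_singleton_iff.1 hs]; exact ⟨hzF, hzA⟩⟩
  right
  push Not at hall
  obtain ⟨s, hsF, hsA, hsz⟩ := hall
  have hcard : Nat.card (St h s) ≤ 2 * Nat.card F := by
    by_cases hc : s * z = z * s
    · rcases comm_case h2 h hsF.sq hc with h3 | ⟨c, hc1, k1, k2, k3, k4⟩
      · exact h3
      exfalso
      have hNz : ∀ v ∈ Neg z, ap s v = c • v := by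
        intro v hv
        have h3 := eq_comb h2 h hv
        rw [h3]
        simp only [ap_add, ap_smul, k1, k2, k3, k4]
        module
      rcases hc1 with rfl | rfl
      · have h3 : Disjoint (Neg s) (Neg z) := by
          rw [Submodule.disjoint_def]
          intro v hv1 hv2
          have h4 := hNz v hv2
          rw [mem_Neg] at hv1
          rw [hv1, one_smul] at h4
          have h5 : (2 : F) • v = 0 := by rw [two_smul]; nth_rewrite 2 [← h4]; exact add_neg_cancel v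
          exact (smul_eq_zero.1 h5).resolve_left h2
        have h4 := Submodule.finrank_add_finrank_le_of_disjoint h3
        rw [finrank_Neg h2 hsF, finrank_Neg h2 hzF] at h4
        omega
      · apply hsz
        have h3 : Neg z = Neg s := by
          refine Submodule.eq_of_le_of_finrank_eq ?_ ?_
          · intro v hv
            rw [mem_Neg, hNz v hv, neg_one_smul]
          · rw [finrank_Neg h2 hsF, finrank_Neg h2 hzF]
        apply ext_ap
        intro v
        obtain ⟨a, ha, b, hb, rfl⟩ : ∃ a ∈ Fix z, ∃ b ∈ Neg z, a + b = v := by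
          have := (isCompl h2 hzF.sq).sup_eq_top
          have hv : v ∈ Fix z ⊔ Neg z := by rw [this]; trivial
          exact Submodule.mem_sup.1 hv
        obtain ⟨a', ha', b', hb', rfl⟩ : ∃ a' ∈ Fix s, ∃ b' ∈ Neg s, a' + b' = a := by
          have := (isCompl h2 hsF.sq).sup_eq_top
          have hv : a ∈ Fix s ⊔ Neg s := by rw [this]; trivial
          exact Submodule.mem_sup.1 hv
        have hb'z : b' ∈ Neg z := by rw [h3]; exact hb'
        have hpol : ∀ e ∈ Neg z, polar Q e b' = 0 := by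
          intro e he
          have h5 := orth h2 _ ha e he
          have h6 := orth h2 _ ha' e (h3 ▸ he)
          rw [polar_add_left, h6, zero_add, polar_comm] at h5
          exact h5
        have hb0 : b' = 0 := by
          rw [eq_comb h2 h hb'z, hpol e₁ z1, hpol f₁ z2, hpol e₂ z3, hpol f₂ z4]
          simp
        subst hb0
        rw [add_zero] at ha ⊢
        rw [ap_add, ap_add]
        rw [mem_Fix] at ha ha'
        rw [ha, ha', hNz b hb, mem_Neg.1 hb, neg_one_smul]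
    · refine (card_le_of_not_comm h hc).trans (by omega)
  have hsub : insert z (Cj h s) ⊆ {s : ↥(E Q) | Fund Q s ∧ s ∈ A} := by
    rintro x hx
    rcases Set.mem_insert_iff.1 hx with rfl | ⟨k, rfl⟩
    · exact ⟨hzF, hzA⟩
    · exact ⟨hsF.conj _, A.mul_mem (A.mul_mem (hA ⟨k, rfl⟩) hsA) (A.inv_mem (hA ⟨k, rfl⟩))⟩
  have hnot : z ∉ Cj h s := by
    rintro ⟨k, hk⟩
    apply hsz
    have h3 : h.rhoE k * z = z * h.rhoE k := by
      rw [hzdef, ← map_mul, ← map_mul]
      congr 1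
      apply Subtype.ext
      change k.1 * (-1) = (-1) * k.1
      rw [mul_neg, neg_mul, mul_one, one_mul]
    have h4 : h.rhoE k * s * (h.rhoE k)⁻¹ = z := hk
    rw [mul_inv_eq_iff_eq_mul, ← h3] at h4
    exact mul_left_cancel h4
  have h5 := Set.ncard_le_ncard hsub (Set.toFinite _)
  rw [Set.ncard_insert_of_notMem hnot (Set.toFinite _)] at h5
  have h6 := card_Cj h s
  have h7 : Nat.card F * (Nat.card F ^ 2 - 1) ≤ (Cj h s).ncard * (2 * Nat.card F) := by
    rw [← h6]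
    exact Nat.mul_le_mul le_rfl hcard
  have h8 : Nat.card F ^ 2 - 1 ≤ (Cj h s).ncard * 2 := by
    have : Nat.card F * (Nat.card F ^ 2 - 1) ≤ Nat.card F * ((Cj h s).ncard * 2) := by
      calc _ ≤ _ := h7
        _ = _ := by ring
    exact Nat.le_of_mul_le_mul_left this (by omega)
  omega

end Cfsg.Agent.H900.IF
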